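import Mathlib
import Cfsg.Prelude.Def_Characters
import Cfsg.Prelude.Def_Transfer

/-!
# S3805: definitions and package statements (team project, coordinator helper9)

`G` finite, `T` a self-centralizing elementary abelian Sylow 3-subgroup of order 9 with
`N_G(T)/T` a four-group and `C_G(t) ≤ N_G(T)` for `1 ≠ t ∈ T`; then `T ⊴ G`.

Model: `N_G(T) ≅ P = D₃ × D₃` through `ψ`; `T = ψ(rot × rot)`, `C1 = ψ(rot × D₃) = C_G(a)`,
`A1 = ψ({p | p.1 a non-trivial rotation})` (a TI subset with normalizer `N`).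
-/

set_option autoImplicit false

namespace Cfsg.Agent.Lib.Helper9.S3805

universe u

/-- The model group `S₃ × S₃`. -/
abbrev P : Type := DihedralGroup 3 × DihedralGroup 3

/-- Rotations of `D₃`. -/
def isRot : DihedralGroup 3 → Bool
  | DihedralGroup.r _ => true
  | DihedralGroup.sr _ => false

def a₀ : P := (DihedralGroup.r 1, 1)
def b₀ : P := (1, DihedralGroup.r 1)
def i₀ : P := (DihedralGroup.sr 0, 1)
def j₀ : P := (1, DihedralGroup.sr 0)

/-- `T₀ = rot × rot`. -/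
def inT (p : P) : Bool := isRot p.1 && isRot p.2
/-- `C1₀ = rot × D₃`, the centralizer of `a₀`. -/
def inC1 (p : P) : Bool := isRot p.1
/-- `A1₀ = (rot ∖ 1) × D₃`. -/
def inA1 (p : P) : Bool := isRot p.1 && !decide (p.1 = 1)

/-- An identification of `N_G(T)` with `P`. -/
structure Model (G : Type u) [Group G] (T : Subgroup G) where
  ψ : P →* G
  inj : Function.Injective ψ
  range_eq : ψ.range = Subgroup.normalizer (T : Set G)
  mem_T : ∀ p, ψ p ∈ T ↔ inT p = true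

/-- The model with the two factors exchanged. -/
def Model.swap {G : Type u} [Group G] {T : Subgroup G} (M : Model G T) : Model G T where
  ψ := M.ψ.comp (MulEquiv.prodComm : P ≃* P).toMonoidHom
  inj := M.inj.comp (MulEquiv.prodComm : P ≃* P).injective
  range_eq := by
    rw [← M.range_eq]
    ext g
    constructor
    · rintro ⟨p, rfl⟩
      exact ⟨_, rfl⟩
    · rintro ⟨p, rfl⟩
      exact ⟨(p.2, p.1), rfl⟩
  mem_T := by
    intro p
    have h := M.mem_T (p.2, p.1)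
    have e : inT (p.2, p.1) = inT p := by
      unfold inT
      exact Bool.and_comm _ _
    rw [e] at h
    exact h

theorem Model.swap_ψ {G : Type u} [Group G] {T : Subgroup G} (M : Model G T) (p : P) :
    M.swap.ψ p = M.ψ (p.2, p.1) := rfl

/-- The local hypothesis of S3805. -/
def Loc {G : Type u} [Group G] (T : Subgroup G) : Prop :=
  ∀ t ∈ T, t ≠ 1 → Subgroup.centralizer ({t} : Set G) ≤ Subgroup.normalizer (T : Set G)

/-- `E, F` is the exceptional pair of `Θ = Ind_{C1}^G (1 - ν) = 1 + E - F`, where `ν` is a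
linear character of `C1` with kernel `ψ(1 × D₃)`: `Θ = 3` on the conjugates of `A1`, `0` off. -/
structure Exc1 {G : Type u} [Group G] {T : Subgroup G} (M : Model G T) (E F : G → ℂ) : Prop where
  irrE : Cfsg.IsIrrCharacter G E
  irrF : Cfsg.IsIrrCharacter G F
  neE : E ≠ fun _ => 1
  neF : F ≠ fun _ => 1
  deg : F 1 = E 1 + 1
  off : ∀ g : G, (∀ (x : G) (p : P), inA1 p = true → x * g * x⁻¹ ≠ M.ψ p) → F g - E g = 1
  on : ∀ p : P, inA1 p = true → F (M.ψ p) - E (M.ψ p) = -2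

/-- Generators of `N_G(T)` in diagonal form. -/
def HasGens {G : Type u} [Group G] (T : Subgroup G) : Prop :=
  ∃ a b i j : G, a ∈ T ∧ b ∈ T ∧ a ≠ 1 ∧ b ≠ 1 ∧ a ^ 3 = 1 ∧ b ^ 3 = 1 ∧ a * b = b * a ∧
    i * i = 1 ∧ j * j = 1 ∧ i * j = j * i ∧ i * a * i⁻¹ = a⁻¹ ∧ i * b * i⁻¹ = b ∧
    j * a * j⁻¹ = a ∧ j * b * j⁻¹ = b⁻¹ ∧ i ∈ Subgroup.normalizer (T : Set G) ∧
    j ∈ Subgroup.normalizer (T : Set G) ∧ Nat.card (Subgroup.normalizer (T : Set G)) = 36 ∧
    Nat.card T = 9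

/-- Number of ordered pairs of non-trivial involutions of `P`, both in `Z`, with product
in `A1₀`. -/
def pairCount (Z : P → Bool) : ℕ :=
  (Finset.univ.filter (fun pq : P × P => pq.1 * pq.1 = 1 ∧ pq.1 ≠ 1 ∧ pq.2 * pq.2 = 1 ∧
    pq.2 ≠ 1 ∧ Z pq.1 = true ∧ Z pq.2 = true ∧ inA1 (pq.1 * pq.2) = true)).card

/-! ## Packages -/

/-- SetupA: diagonal generators from the hypotheses of S3805. -/
def PkgSetupA : Prop :=
  ∀ {G : Type u} [Group G] [Finite G] (T : Sylow 3 G),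
    Cfsg.IsElementaryAbelian 3 (T : Subgroup G) → Nat.card T = 9 →
    Subgroup.centralizer ((T : Subgroup G) : Set G) = T →
    ∀ [hn : ((T : Subgroup G).subgroupOf (Subgroup.normalizer ((T : Subgroup G) : Set G))).Normal],
    IsKleinFour (↥(Subgroup.normalizer ((T : Subgroup G) : Set G)) ⧸
      (T : Subgroup G).subgroupOf (Subgroup.normalizer ((T : Subgroup G) : Set G))) →
    HasGens (T : Subgroup G)

/-- SetupB: the model from generators. -/
def PkgSetupB : Prop :=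
  ∀ {G : Type u} [Group G] [Finite G] (T : Subgroup G), HasGens T → Nonempty (Model G T)

/-- TI: a conjugation moving an element of `T^#` into `N` lies in `N`. -/
def PkgTI : Prop :=
  ∀ {G : Type u} [Group G] [Finite G] (T : Subgroup G) (M : Model G T), Loc T →
    ∀ (g : G) (p q : P), inT p = true → p ≠ 1 → g * M.ψ p * g⁻¹ = M.ψ q →
      g ∈ Subgroup.normalizer (T : Set G)

/-- TIA: the same for elements of `A1` (use `p * p`). -/
def PkgTIA : Prop :=
  ∀ {G : Type u} [Group G] [Finite G] (T : Subgroup G) (M : Model G T), Loc T →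
    ∀ (g : G) (p q : P), inA1 p = true → g * M.ψ p * g⁻¹ = M.ψ q →
      g ∈ Subgroup.normalizer (T : Set G)

/-- Exc: existence of the exceptional pair. -/
def PkgExc : Prop :=
  PkgTIA.{u} → ∀ {G : Type u} [Group G] [Finite G] (T : Subgroup G) (M : Model G T), Loc T →
    ∃ E F : G → ℂ, Exc1 M E F

/-- Ker: an involution with no conjugate in `N ∖ C1` lies in `ker E ∩ ker F`. -/
def PkgKer : Prop :=
  PkgTIA.{u} → ∀ {G : Type u} [Group G] [Finite G] (T : Subgroup G) (M : Model G T), Loc T →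
    ∀ (E F : G → ℂ), Exc1 M E F → ∀ z : G, z * z = 1 → z ≠ 1 →
      (∀ (g : G) (p : P), inC1 p = false → g * z * g⁻¹ ≠ M.ψ p) → E z = E 1 ∧ F z = F 1

/-- Syl: `i` and `j` are not conjugate in `G`. -/
def PkgSyl : Prop :=
  PkgTI.{u} → ∀ {G : Type u} [Group G] [Finite G] (T : Sylow 3 G) (M : Model G (T : Subgroup G)),
    Loc (T : Subgroup G) → ∀ g : G, g * M.ψ i₀ * g⁻¹ ≠ M.ψ j₀

/-- End: the endgame of case A. -/
def PkgEnd : Prop :=
  PkgTI.{u} → ∀ {G : Type u} [Group G] [Finite G] (T : Sylow 3 G) (M : Model G (T : Subgroup G)),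
    Loc (T : Subgroup G) → ∀ (E1 F1 E3 F3 : G → ℂ), Exc1 M E1 F1 → Exc1 M.swap E3 F3 →
      E1 (M.ψ j₀) = E1 1 → F1 (M.ψ j₀) = F1 1 → E3 (M.ψ i₀) = E3 1 → F3 (M.ψ i₀) = F3 1 →
      Subgroup.normalizer ((T : Subgroup G) : Set G) = ⊤

/-- TISum: summation against `Θ = 1 + E - F` of a class function. -/
def PkgTISum : Prop :=
  PkgTIA.{u} → ∀ {G : Type u} [Group G] [Fintype G] (T : Subgroup G) (M : Model G T), Loc T →
    ∀ (E F : G → ℂ), Exc1 M E F → ∀ φ : G → ℂ, (∀ g x : G, φ (x * g * x⁻¹) = φ g) →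
      12 * ∑ g : G, (1 + E g - F g) * φ g =
        (Nat.card G : ℂ) * ∑ p : P, (if inA1 p = true then φ (M.ψ p) else 0)

/-- CCount: the counting identity for an involution `z`. -/
def PkgCCount : Prop :=
  PkgTIA.{u} → PkgTISum.{u} →
    ∀ {G : Type u} [Group G] [Fintype G] (T : Subgroup G) (M : Model G T), Loc T →
    ∀ (E F : G → ℂ), Exc1 M E F → ∀ z : G, z * z = 1 → z ≠ 1 → ∀ Z : P → Bool,
      (∀ p : P, p * p = 1 → p ≠ 1 → (Z p = true ↔ ∃ g : G, g * z * g⁻¹ = M.ψ p)) →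
      (Nat.card (Subgroup.centralizer ({z} : Set G)) : ℂ) ^ 2 * ((pairCount Z : ℕ) : ℂ) =
        12 * (Nat.card G : ℂ) * (1 + E z ^ 2 / E 1 - F z ^ 2 / F 1)

/-- CLin2: a normal subgroup containing `j` but not `i` gives a sign character. -/
def PkgCLin2 : Prop :=
  PkgTI.{u} → ∀ {G : Type u} [Group G] [Finite G] (T : Sylow 3 G) (M : Model G (T : Subgroup G)),
    Loc (T : Subgroup G) → ∀ K : Subgroup G, K.Normal → M.ψ j₀ ∈ K → M.ψ i₀ ∉ K →
      ∃ lam : G →* ℂˣ, (∀ g, lam g = 1 ∨ lam g = -1) ∧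
        (∀ p : P, inC1 p = true → lam (M.ψ p) = 1) ∧ lam (M.ψ i₀) = -1

/-- CLin3: a non-trivial linear character trivial on `C1` equals `E`. -/
def PkgCLin3 : Prop :=
  PkgTISum.{u} → ∀ {G : Type u} [Group G] [Finite G] (T : Subgroup G) (M : Model G T), Loc T →
    ∀ (E F : G → ℂ), Exc1 M E F → ∀ lam : G →* ℂˣ,
      (∀ p : P, inC1 p = true → lam (M.ψ p) = 1) → lam (M.ψ i₀) = -1 →
      ∀ g : G, E g = ((lam g : ℂˣ) : ℂ)

/-- CTwist: twisting `Θ` by a sign character. -/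
def PkgCTwist : Prop :=
  PkgTISum.{u} → ∀ {G : Type u} [Group G] [Finite G] (T : Subgroup G) (M : Model G T), Loc T →
    ∀ (E F : G → ℂ), Exc1 M E F → ∀ lam : G →* ℂˣ, (∀ g, lam g = 1 ∨ lam g = -1) →
      (∀ p : P, lam (M.ψ p) = if isRot p.2 = true then 1 else -1) →
      E (M.ψ (DihedralGroup.r 1, DihedralGroup.sr 0)) = 1 ∨ (∀ g : G, lam g = -1 → E g = 0) ∨
        (∀ g : G, E g = ((lam g : ℂˣ) : ℂ))

/-- CCong: a congruence for character values. -/
def PkgCCong : Prop :=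
  ∀ {G : Type u} [Group G] [Finite G] (χ : G → ℂ), Cfsg.IsCharacter G χ →
    ∀ u v : G, u * u = 1 → v * v * v = 1 → u * v = v * u → χ (u * v) = 1 →
      ∃ k : ℤ, χ u = 3 * (k : ℂ) + 1

/-- CArith: the final arithmetic. -/
def PkgCArith : Prop :=
  ∀ (e : ℕ) (k : ℤ), 1 ≤ e → 8 * ((e : ℤ) - (3 * k + 1)) ^ 2 = 9 * (e : ℤ) * ((e : ℤ) + 1) → False

end Cfsg.Agent.Lib.Helper9.S3805
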